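import Groth.Prelude.Def_EtBCD
import Mathlib.Algebra.Category.ModuleCat.FilteredColimits
import Mathlib.CategoryTheory.Functor.Flat
import Mathlib.CategoryTheory.Sites.Pullback
import Mathlib.CategoryTheory.Limits.FilteredColimitCommutesFiniteLimit
import Mathlib.CategoryTheory.Limits.Preserves.Filtered
import Mathlib.Algebra.Category.Grp.Limits
import Mathlib.Algebra.Category.Grp.Colimits
import Mathlib.Algebra.Category.Grp.FilteredColimits
import Mathlib.Algebra.Category.Grp.Abelian

/-!
# Left Kan extensions along flat functors of large categories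
-/

set_option autoImplicit false

universe u

open CategoryTheory CategoryTheory.Limits Opposite

namespace Groth.Agent.EtShPull

variable {C : Type (u + 1)} [Category.{u} C] {D : Type (u + 1)} [Category.{u} D] 

set_option backward.defeqAttrib.useBackward true in
set_option backward.isDefEq.respectTransparency false in
/-- The evaluation of a left Kan extension is a colimit over the costructured arrows. -/
noncomputable def lanEvalIso (F : C ⥤ D) (X : D) :
    F.lan ⋙ (evaluation D (Type (u + 1))).obj X ≅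
      (Functor.whiskeringLeft _ _ (Type (u + 1))).obj (CostructuredArrow.proj F X) ⋙ colim :=
  NatIso.ofComponents (fun G =>
    IsColimit.coconePointUniqueUpToIso
    (Functor.isPointwiseLeftKanExtensionLeftKanExtensionUnit F G X)
    (colimit.isColimit _)) (fun {G₁ G₂} φ => by
      apply (Functor.isPointwiseLeftKanExtensionLeftKanExtensionUnit F G₁ X).hom_ext
      intro T
      have h₁ := fun (G : C ⥤ (Type (u + 1))) => IsColimit.comp_coconePointUniqueUpToIso_hom
        (Functor.isPointwiseLeftKanExtensionLeftKanExtensionUnit F G X) (colimit.isColimit _) T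
      have h₂ := congr_app (F.lanUnit.naturality φ) T.left
      dsimp at h₁ h₂ ⊢
      simp only [Category.assoc] at h₁ ⊢
      simp only [Functor.lan, Functor.lanUnit] at h₂ ⊢
      rw [reassoc_of% h₁, NatTrans.naturality_assoc, ← reassoc_of% h₂, h₁,
        ι_colimMap, Functor.whiskerLeft_app]
      rfl)

theorem lan_preservesFiniteLimits (F : C ⥤ D) [RepresentablyFlat F] :
    PreservesFiniteLimits (F.op.lan : _ ⥤ Dᵒᵖ ⥤ (Type (u + 1))) := by
  refine ⟨fun J _ _ => ?_⟩
  apply preservesLimitsOfShape_of_evaluation (F.op.lan : (Cᵒᵖ ⥤ (Type (u + 1))) ⥤ Dᵒᵖ ⥤ _) J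
  intro K
  have : IsFiltered (CostructuredArrow F.op K) :=
    IsFiltered.of_equivalence (structuredArrowOpEquivalence F (unop K))
  have : PreservesFilteredColimitsOfSize.{u, u + 1} (forget (Type (u + 1))) :=
    preservesFilteredColimitsOfSize_of_univLE.{u + 1, u + 1, u, u + 1} _
  have : PreservesColimitsOfShape (CostructuredArrow F.op K) (forget (Type (u + 1))) :=
    PreservesFilteredColimitsOfSize.preserves_filtered_colimits _
  exact preservesLimitsOfShape_of_natIso (lanEvalIso _ _).symm

theorem sheafPullback_preservesFiniteLimits (F : C ⥤ D) [RepresentablyFlat F] (J : GrothendieckTopology C)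
    (K : GrothendieckTopology D) [F.IsContinuous J K] [HasSheafify J (Type (u + 1))]
    [HasSheafify K (Type (u + 1))] :
    PreservesFiniteLimits (F.sheafPullback (Type (u + 1)) J K) := by
  haveI := lan_preservesFiniteLimits F
  exact Functor.sheafPullbackConstruction.preservesFiniteLimits F _ J K



/-- Inverse image of étale sheaves of sets is left exact. -/
theorem pullSh_preservesFiniteLimits {X Y : AlgebraicGeometry.Scheme.{u}}
    (f : X ⟶ Y) : PreservesFiniteLimits (EtDesc.pullSh f) := by
  have := EtCoh.preservesFiniteLimits_bc f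
  have : RepresentablyFlat (EtCoh.bc f) := flat_of_preservesFiniteLimits _
  exact sheafPullback_preservesFiniteLimits (EtCoh.bc f) Y.smallEtaleTopology X.smallEtaleTopology

end Groth.Agent.EtShPull

namespace Groth.Agent.EtShPull

open AlgebraicGeometry

set_option backward.isDefEq.respectTransparency false
set_option backward.isDefEq.respectTransparency.types false

/-- `secPull` is natural in the sheaf. -/
theorem secPull_natural {X Y : Scheme.{u}} (h : Y ⟶ X) {F G : EtDesc.Sh X} (a : F ⟶ G)
    (s : EtDesc.sect F (EtCoh.top X)) :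
    EtDesc.secPull h G (a.hom.app (op (EtCoh.top X)) s) =
      ((EtDesc.pullSh h).map a).hom.app (op (EtCoh.top Y)) (EtDesc.secPull h F s) := by
  have h1 := congrArg (fun t => t.hom.app (op (EtCoh.top X)) s) ((EtDesc.adjSh h).unit.naturality a)
  simp only [Functor.id_map, Functor.comp_map] at h1
  unfold EtDesc.secPull
  refine (congrArg _ h1).trans ?_
  exact (NatTrans.naturality_apply ((EtDesc.pullSh h).map a).hom (EtCore.bcTopIso h).inv.op _).symm

/-- monomorphisms of sheaves of sets are injective on sections -/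
theorem app_injective {X : Scheme.{u}} {F G : EtDesc.Sh X} (a : F ⟶ G) [Mono a] (U : X.Etale) :
    Function.Injective (a.hom.app (op U)) :=
  (mono_iff_injective _).1 (inferInstanceAs (Mono ((((sheafToPresheaf _ _).map a)).app (op U))))

/-- descent of sections through a monomorphism -/
theorem mem_range_secPull_of_mono {X Y : Scheme.{u}} (h : Y ⟶ X)
    (hinj : ∀ F : EtDesc.Sh X, Function.Injective (EtDesc.secPull h F))
    {F G : EtDesc.Sh X} (u : F ⟶ G) [Mono u]
    (ξ : EtDesc.sect ((EtDesc.pullSh h).obj F) (EtCoh.top Y))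
    (hξ : ((EtDesc.pullSh h).map u).hom.app (op (EtCoh.top Y)) ξ ∈ Set.range (EtDesc.secPull h G)) :
    ξ ∈ Set.range (EtDesc.secPull h F) := by
  obtain ⟨s, hs⟩ := hξ
  have := pullSh_preservesFiniteLimits h
  let e : RegularMono u := regularMonoOfMono u
  have hw : ∀ (t : EtDesc.sect F (EtCoh.top X)), e.left.hom.app (op (EtCoh.top X)) (u.hom.app _ t) =
      e.right.hom.app (op (EtCoh.top X)) (u.hom.app _ t) := fun t =>
    congrArg (fun k => k.hom.app (op (EtCoh.top X)) t) e.w
  have hst : e.left.hom.app (op (EtCoh.top X)) s = e.right.hom.app (op (EtCoh.top X)) s := by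
    apply hinj
    rw [secPull_natural, secPull_natural, hs]
    have H := congrArg (fun k => ((EtDesc.pullSh h).map k).hom.app (op (EtCoh.top Y)) ξ) e.w
    simp only [Functor.map_comp] at H
    exact H
  let ev : EtDesc.Sh X ⥤ Type (u + 1) := sheafToPresheaf _ _ ⋙ (evaluation _ _).obj (op (EtCoh.top X))
  obtain ⟨t, ht⟩ := (Types.type_equalizer_iff_unique _ _).1
    ⟨isLimitForkMapOfIsLimit ev e.w e.isLimit⟩ s hst
  refine ⟨t, app_injective ((EtDesc.pullSh h).map u) (EtCoh.top Y) ?_⟩
  rw [← secPull_natural]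
  exact (congrArg (EtDesc.secPull h G) ht.1).trans hs

end Groth.Agent.EtShPull

namespace Groth.Agent.EtShPull

open AlgebraicGeometry

set_option backward.isDefEq.respectTransparency false
set_option backward.isDefEq.respectTransparency.types false

variable {X Y Xb Yb : Scheme.{u}} (h : Y ⟶ X) (p : Xb ⟶ X) (hb : Yb ⟶ Xb) (pY : Yb ⟶ Y)

theorem secPull_baseChange (w : hb ≫ p = pY ≫ h) (F : EtDesc.Sh Xb) :
    ∃ (α : EtDesc.sect F (EtCoh.top Xb) ≃ EtDesc.sect ((EtDesc.pushSh p).obj F) (EtCoh.top X))
      (β : EtDesc.sect ((EtDesc.pullSh hb).obj F) (EtCoh.top Yb) ≃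
        EtDesc.sect ((EtDesc.pushSh pY).obj ((EtDesc.pullSh hb).obj F)) (EtCoh.top Y)),
      ∀ s, (EtBC.baseChange0Sh p h pY hb w F).hom.app (op (EtCoh.top Y))
        (EtDesc.secPull h ((EtDesc.pushSh p).obj F) (α s)) = β (EtDesc.secPull hb F s) := by
  let G := (EtDesc.pullSh hb).obj F
  refine ⟨(F.obj.mapIso (EtCore.bcTopIso p).op).toEquiv, (G.obj.mapIso (EtCore.bcTopIso pY).op).toEquiv,
    fun s => ?_⟩
  let s₁ : F.obj.obj (op ((EtCoh.bc p).obj (EtCoh.top X))) := F.obj.map (EtCore.bcTopIso p).hom.op s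
  have tY : IsTerminal ((EtCoh.bc pY).obj ((EtCoh.bc h).obj (EtCoh.top X))) :=
    IsTerminal.ofIso (EtCore.bcTopIsTerminal pY) ((EtCoh.bc pY).mapIso (EtCore.bcTopIso h).symm)
  have tT : IsTerminal ((EtCoh.bc pY).obj (EtCoh.top Y)) := EtCore.bcTopIsTerminal pY
  have key : ∀ {U V : Yb.Etale} (m n : U ⟶ V) (_ : IsTerminal V) (x : G.obj.obj (op V)),
      G.obj.map m.op x = G.obj.map n.op x := fun m n t x => by rw [t.hom_ext m n]
  let φ := (EtDesc.pushSh p).map ((EtDesc.adjSh hb).unit.app F) ≫ (EtDesc.pushCompSh p hb).hom.app _ ≫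
    (EtBC.pushCongrSh w).hom.app _ ≫ (EtDesc.pushCompSh h pY).inv.app _
  have h2 : (EtDesc.adjSh h).unit.app _ ≫
      (EtDesc.pushSh h).map (EtBC.baseChange0Sh p h pY hb w F) = φ := by
    refine ((EtDesc.adjSh h).homEquiv_unit _ _ _).symm.trans ?_
    exact Equiv.apply_symm_apply _ _
  have h3 := congrArg (fun t => t.hom.app (op (EtCoh.top X)) s₁) h2
  unfold EtDesc.secPull
  refine (NatTrans.naturality_apply (EtBC.baseChange0Sh p h pY hb w F).hom
    (EtCore.bcTopIso h).inv.op _).trans ?_
  refine (congrArg (((EtDesc.pushSh pY).obj G).obj.map (EtCore.bcTopIso h).inv.op) h3).trans ?_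
  have h4 : ((EtDesc.adjSh hb).unit.app F).hom.app (op ((EtCoh.bc p).obj (EtCoh.top X))) s₁ =
      G.obj.map ((EtCoh.bc hb).map (EtCore.bcTopIso p).hom).op
        (((EtDesc.adjSh hb).unit.app F).hom.app (op (EtCoh.top Xb)) s) :=
    NatTrans.naturality_apply ((EtDesc.adjSh hb).unit.app F).hom (EtCore.bcTopIso p).hom.op s
  obtain ⟨m, hm⟩ : ∃ m : (EtCoh.bc pY).obj ((EtCoh.bc h).obj (EtCoh.top X)) ⟶
      (EtCoh.bc hb).obj ((EtCoh.bc p).obj (EtCoh.top X)),
      φ.hom.app (op (EtCoh.top X)) s₁ = G.obj.map m.op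
        (((EtDesc.adjSh hb).unit.app F).hom.app (op ((EtCoh.bc p).obj (EtCoh.top X))) s₁) := by
    exact ⟨(MorphismProperty.Over.pullbackComp (P := EtCoh.etaleMP) (Q := ⊤) pY h).inv.app (EtCoh.top X) ≫
      (MorphismProperty.Over.pullbackCongr (P := EtCoh.etaleMP) (Q := ⊤) w).inv.app (EtCoh.top X) ≫
      (MorphismProperty.Over.pullbackComp (P := EtCoh.etaleMP) (Q := ⊤) hb p).hom.app (EtCoh.top X), by
        simp only [op_comp, Functor.map_comp]
        rfl⟩
  refine (congrArg (((EtDesc.pushSh pY).obj G).obj.map (EtCore.bcTopIso h).inv.op)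
    (hm.trans (congrArg (G.obj.map m.op) h4))).trans ?_
  show G.obj.map ((EtCoh.bc pY).map (EtCore.bcTopIso h).inv).op (G.obj.map m.op (G.obj.map _ _)) =
    G.obj.map (EtCore.bcTopIso pY).hom.op (G.obj.map (EtCore.bcTopIso hb).inv.op _)
  simp only [← ConcreteCategory.comp_apply, ← Functor.map_comp, ← op_comp]
  exact key _ _ (EtCore.bcTopIsTerminal hb) _

end Groth.Agent.EtShPull
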